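import Mathlib
import Cfsg.Agent.Lib.Helper54.CoprimeGen
import Cfsg.Agent.S3738

set_option autoImplicit false

/-! External (automorphism group) forms of two coprime action tools. -/

namespace Cfsg.Agent.Lib.Helper70.Ex

open Cfsg.Agent.S3738 (fx mem_fx)

/-- Generation by fixed points for a pair of commuting automorphisms of order `p` of a `q`-group. -/
theorem gen_pair {W : Type*} [Group W] [Finite W] (p q : ℕ) [Fact p.Prime] [Fact q.Prime]
    (a b : MulAut W)
    (hab : Commute a b) (hap : a ^ p = 1) (hbp : b ^ p = 1) (K : Subgroup W) (hK2 : IsPGroup q K)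
    (ha : ∀ x, a x ∈ K ↔ x ∈ K) (hb : ∀ x, b x ∈ K ↔ x ∈ K) (hK : ¬ p ∣ Nat.card K)
    (H : Subgroup W) (h1 : K ⊓ fx a ≤ H) (h2 : ∀ i : ℕ, K ⊓ fx (a ^ i * b) ≤ H) : K ≤ H := by
  let φ : MulAut W →* MulAut W := MonoidHom.id _
  have hfin : Finite (W ⋊[φ] MulAut W) := Finite.of_equiv _ SemidirectProduct.equivProd.symm
  have hinj : Function.Injective (SemidirectProduct.inl : W →* W ⋊[φ] MulAut W) :=
    SemidirectProduct.inl_injective
  have hconj : ∀ (e : MulAut W) (n : W), (SemidirectProduct.inr e : W ⋊[φ] MulAut W) *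
      SemidirectProduct.inl n * (SemidirectProduct.inr e)⁻¹ = SemidirectProduct.inl (e n) := by
    intro e n
    rw [← map_inv]
    exact (SemidirectProduct.inl_aut (φ := φ) e n).symm
  have hnorm : ∀ e : MulAut W, (∀ x, e x ∈ K ↔ x ∈ K) →
      (SemidirectProduct.inr e : W ⋊[φ] MulAut W) ∈
        Subgroup.normalizer ((K.map SemidirectProduct.inl : Subgroup (W ⋊[φ] MulAut W)) : Set _) := by
    intro e he
    rw [Subgroup.mem_normalizer_iff]
    intro h
    constructor
    · rintro ⟨k, hk, rfl⟩
      rw [hconj]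
      exact ⟨e k, (he k).2 hk, rfl⟩
    · rintro ⟨k, hk, hkh⟩
      refine ⟨e⁻¹ k, ?_, ?_⟩
      · rw [SetLike.mem_coe, ← he]
        simpa using hk
      · have h3 := hconj e (e⁻¹ k)
        have h4 : e (e⁻¹ k) = k := by simp
        rw [h4, hkh] at h3
        have h5 := mul_right_cancel h3
        exact mul_left_cancel h5
  have hsol : Group.IsSolvable (K.map SemidirectProduct.inl : Subgroup (W ⋊[φ] MulAut W)) := by
    have h3 : IsPGroup q (K.map SemidirectProduct.inl : Subgroup (W ⋊[φ] MulAut W)) := hK2.map _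
    have := h3.isNilpotent
    infer_instance
  have hcard : Nat.card (K.map SemidirectProduct.inl : Subgroup (W ⋊[φ] MulAut W)) = Nat.card K :=
    Subgroup.card_map_of_injective hinj
  have key := Cfsg.Agent.Lib.Helper54.le_genC_of_isSolvable p
    (a := (SemidirectProduct.inr a : W ⋊[φ] MulAut W)) (b := SemidirectProduct.inr b)
    (by
      change _ * _ = _ * _
      rw [← map_mul, ← map_mul, hab.eq])
    (by rw [← map_pow, hap, map_one]) (by rw [← map_pow, hbp, map_one])
    (K.map SemidirectProduct.inl) hsol (hnorm a ha) (hnorm b hb) (by rw [hcard]; exact hK)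
  have hpiece : ∀ e : MulAut W, K ⊓ fx e ≤ H →
      (K.map SemidirectProduct.inl : Subgroup (W ⋊[φ] MulAut W)) ⊓
        Subgroup.centralizer {(SemidirectProduct.inr e : W ⋊[φ] MulAut W)} ≤
        H.map SemidirectProduct.inl := by
    intro e he x hx
    rw [Subgroup.mem_inf] at hx
    obtain ⟨⟨k, hk, rfl⟩, hc⟩ := hx
    have h3 := Subgroup.mem_centralizer_iff.1 hc _ rfl
    have h4 := hconj e k
    rw [h3, mul_assoc, mul_inv_cancel, mul_one] at h4
    have h5 : e k = k := (hinj h4).symm
    exact ⟨k, he ⟨hk, h5⟩, rfl⟩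
  have hle : (K.map SemidirectProduct.inl : Subgroup (W ⋊[φ] MulAut W)) ≤
      H.map SemidirectProduct.inl := by
    refine key.trans (sup_le (hpiece a h1) (iSup_le fun i => ?_))
    rw [← map_pow, ← map_mul]
    exact hpiece _ (h2 i)
  exact (Subgroup.map_le_map_iff_of_injective hinj).1 hle

/-- A `p`-group of automorphisms stabilising a coset of a subgroup of order prime to `p` fixes
an element of the coset. -/
theorem exists_fixed_in_coset {W : Type*} [Group W] [Finite W] {p : ℕ} [Fact p.Prime]
    (F : Subgroup (MulAut W)) (hF : IsPGroup p F) (N : Subgroup W) (hN : ¬ p ∣ Nat.card N) (x : W)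
    (hx : ∀ e ∈ F, ∀ n ∈ N, x⁻¹ * e (x * n) ∈ N) : ∃ n ∈ N, ∀ e ∈ F, e (x * n) = x * n := by
  let S : SubMulAction F W :=
    { carrier := {y | x⁻¹ * y ∈ N}
      smul_mem' := by
        intro e y hy
        have h1 := hx e e.2 _ hy
        rw [mul_inv_cancel_left] at h1
        exact h1 }
  have hcard : Nat.card S = Nat.card N := by
    apply Nat.card_congr
    exact
      { toFun := fun y => ⟨x⁻¹ * y.1, y.2⟩
        invFun := fun n => ⟨x * n.1, by
          change x⁻¹ * (x * n.1) ∈ N
          rw [inv_mul_cancel_left]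
          exact n.2⟩
        left_inv := by
          intro y
          apply Subtype.ext
          change x * (x⁻¹ * y.1) = y.1
          rw [mul_inv_cancel_left]
        right_inv := by
          intro n
          apply Subtype.ext
          change x⁻¹ * (x * n.1) = n.1
          rw [inv_mul_cancel_left] }
  obtain ⟨y, hy⟩ := hF.nonempty_fixed_point_of_prime_not_dvd_card S (by rw [hcard]; exact hN)
  refine ⟨x⁻¹ * y.1, y.2, fun e he => ?_⟩
  rw [mul_inv_cancel_left]
  exact congrArg Subtype.val (hy ⟨e, he⟩)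

end Cfsg.Agent.Lib.Helper70.Ex
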