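import Mathlib
import Cfsg.Agent.Lib.Helper70.Ex.Tools

set_option autoImplicit false

/-! Setting of S2934: a noncyclic abelian `p`-group `E` (`p` odd) of automorphisms of a 2-group `W`,
each nontrivial element fixing at most one involution. -/

namespace Cfsg.Agent.Lib.Helper70.Ex

open Cfsg.Agent.S3738 (fx mem_fx)

structure Ctx (W : Type*) [Group W] (p : ℕ) (E : Subgroup (MulAut W)) : Prop where
  hW : IsPGroup 2 W
  hp : p ≠ 2
  hE : IsPGroup p E
  comm : ∀ e ∈ E, ∀ f ∈ E, e * f = f * e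
  hnc : ¬ IsCyclic E
  hfix : ∀ e ∈ E, e ≠ 1 → ∀ x y : W, x ≠ 1 → x * x = 1 → y ≠ 1 → y * y = 1 → e x = x → e y = y →
    x = y

/-- `K` is invariant under `E`. -/
def Inv {W : Type*} [Group W] (E : Subgroup (MulAut W)) (K : Subgroup W) : Prop :=
  ∀ e ∈ E, ∀ x, e x ∈ K ↔ x ∈ K

/-- The common fixed points of `E`. -/
def fixE {W : Type*} [Group W] (E : Subgroup (MulAut W)) : Subgroup W where
  carrier := {x | ∀ e ∈ E, e x = x}
  mul_mem' := by
    intro x y hx hy e he
    rw [map_mul, hx e he, hy e he]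
  one_mem' := fun e _ => map_one e
  inv_mem' := by
    intro x hx e he
    rw [map_inv, hx e he]

theorem mem_fixE {W : Type*} [Group W] (E : Subgroup (MulAut W)) (x : W) :
    x ∈ fixE E ↔ ∀ e ∈ E, e x = x := Iff.rfl

variable {W : Type*} [Group W] [Finite W] {p : ℕ} [Fact p.Prime] {E : Subgroup (MulAut W)}

theorem Ctx.not_dvd (h : Ctx W p E) (K : Subgroup W) : ¬ p ∣ Nat.card K := by
  intro hd
  have : Fact (Nat.Prime 2) := ⟨Nat.prime_two⟩
  obtain ⟨n, hn⟩ := IsPGroup.iff_card.1 (h.hW.to_subgroup K)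
  rw [hn] at hd
  have h1 := (Fact.out : p.Prime).dvd_of_dvd_pow hd
  exact h.hp ((Nat.prime_dvd_prime_iff_eq Fact.out Nat.prime_two).1 h1)

theorem Ctx.pair (h : Ctx W p E) : ∃ a ∈ E, ∃ b ∈ E, a ^ p = 1 ∧ b ^ p = 1 ∧ a ≠ 1 ∧
    b ∉ Subgroup.zpowers a := by
  letI : CommGroup E :=
    { (inferInstance : Group E) with
      mul_comm := fun x y => Subtype.ext (h.comm x x.2 y y.2) }
  obtain ⟨p', hp', a, b, hap, hbp, ha1, hb⟩ :=
    Cfsg.Agent.Lib.Helper54.exists_pair_of_not_isCyclic (A := E) h.hnc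
  have : Fact p'.Prime := ⟨hp'⟩
  have hord : orderOf a = p' := orderOf_eq_prime hap ha1
  obtain ⟨k, hk⟩ := (IsPGroup.iff_orderOf.1 h.hE) a
  have hpp : p' = p := by
    rw [hord] at hk
    have h1 : p' ∣ p ^ k := by rw [← hk]
    exact (Nat.prime_dvd_prime_iff_eq hp' Fact.out).1 (hp'.dvd_of_dvd_pow h1)
  subst hpp
  refine ⟨a, a.2, b, b.2, ?_, ?_, ?_, ?_⟩
  · simpa using congrArg Subtype.val hap
  · simpa using congrArg Subtype.val hbp
  · exact fun h1 => ha1 (Subtype.ext h1)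
  · intro hmem
    apply hb
    obtain ⟨i, hi⟩ := Subgroup.mem_zpowers_iff.1 hmem
    exact Subgroup.mem_zpowers_iff.2 ⟨i, Subtype.ext (by simpa using hi)⟩

theorem Ctx.gen (h : Ctx W p E) (K : Subgroup W) (hK : Inv E K) (H : Subgroup W)
    (hH : ∀ e ∈ E, e ≠ 1 → K ⊓ fx e ≤ H) : K ≤ H := by
  have : Fact (Nat.Prime 2) := ⟨Nat.prime_two⟩
  obtain ⟨a, ha, b, hb, hap, hbp, ha1, hba⟩ := h.pair
  apply gen_pair p 2 a b (h.comm a ha b hb) hap hbp K (h.hW.to_subgroup K) (hK a ha) (hK b hb)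
    (h.not_dvd K) H (hH a ha ha1)
  intro i
  apply hH _ (E.mul_mem (E.pow_mem ha i) hb)
  intro h1
  apply hba
  have : b = (a ^ i)⁻¹ := (inv_eq_of_mul_eq_one_right h1).symm
  rw [this]
  exact Subgroup.inv_mem _ (Subgroup.pow_mem _ (Subgroup.mem_zpowers a) i)

theorem Ctx.exists_ne_one (h : Ctx W p E) : ∃ e ∈ E, e ≠ 1 := by
  obtain ⟨a, ha, -, -, -, -, ha1, -⟩ := h.pair
  exact ⟨a, ha, ha1⟩

/-- Invariant elementary abelian subgroups have order at most two and are centralised. -/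
theorem Ctx.lemA (h : Ctx W p E) (V : Subgroup W) (hV : Inv E V) (hV2 : ∀ v ∈ V, v * v = 1) :
    V ≤ fixE E ∧ ∀ u ∈ V, ∀ v ∈ V, u ≠ 1 → v ≠ 1 → u = v := by
  have h1 : V ≤ fixE E := by
    apply h.gen V hV
    intro e he he1 u hu
    rw [Subgroup.mem_inf, mem_fx] at hu
    intro e' he'
    by_cases hu1 : u = 1
    · rw [hu1, map_one]
    apply h.hfix e he he1
    · intro h2
      apply hu1
      rw [← map_one e'] at h2
      exact e'.injective h2
    · rw [← map_mul, hV2 u hu.1, map_one]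
    · exact hu1
    · exact hV2 u hu.1
    · have h3 : (e * e') u = (e' * e) u := by rw [h.comm e he e' he']
      rw [MulAut.mul_apply, MulAut.mul_apply, hu.2] at h3
      exact h3
    · exact hu.2
  refine ⟨h1, ?_⟩
  obtain ⟨e, he, he1⟩ := h.exists_ne_one
  intro u hu v hv hu1 hv1
  exact h.hfix e he he1 u v hu1 (hV2 u hu) hv1 (hV2 v hv) (h1 hu e he) (h1 hv e he)

/-- Invariant abelian subgroups are centralised. -/
theorem Ctx.lemB (h : Ctx W p E) (A : Subgroup W) (hA : Inv E A)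
    (hAc : ∀ x ∈ A, ∀ y ∈ A, x * y = y * x) : A ≤ fixE E := by
  obtain ⟨Ω, -, hΩ, -, -⟩ := Cfsg.Agent.S3738.sq_index A hAc
  have hΩinv : Inv E Ω := by
    intro e he x
    rw [hΩ, hΩ, hA e he x, ← map_mul]
    constructor
    · rintro ⟨h1, h2⟩
      refine ⟨h1, ?_⟩
      rw [← map_one e] at h2
      exact e.injective h2
    · rintro ⟨h1, h2⟩
      exact ⟨h1, by rw [h2, map_one]⟩
  have hΩfix := (h.lemA Ω hΩinv (fun v hv => ((hΩ v).1 hv).2)).1
  intro x hx e he
  obtain ⟨k, hk⟩ := h.hE ⟨e, he⟩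
  have hk' : e ^ (p ^ k) = 1 := by simpa using congrArg Subtype.val hk
  have hodd : ∃ m, p ^ k = 2 * m + 1 := by
    have h1 : Odd (p ^ k) := ((Fact.out : p.Prime).odd_of_ne_two h.hp).pow
    obtain ⟨m, hm⟩ := h1
    exact ⟨m, hm⟩
  obtain ⟨m, hm⟩ := hodd
  have claim : ∀ j : ℕ, ∀ x ∈ A, x ^ (2 ^ j) = 1 → e x = x := by
    intro j
    induction j with
    | zero =>
      intro x _ hx1
      rw [pow_zero, pow_one] at hx1
      rw [hx1, map_one]
    | succ j ih =>
      intro x hx hx1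
      have h1 : e (x * x) = x * x := by
        apply ih _ (A.mul_mem hx hx)
        rw [← pow_two, ← pow_mul, ← pow_succ']
        exact hx1
      have hex : e x ∈ A := (hA e he x).2 hx
      obtain ⟨t, ht⟩ : ∃ t, t = x⁻¹ * e x := ⟨_, rfl⟩
      have htA : t ∈ A := by rw [ht]; exact A.mul_mem (A.inv_mem hx) hex
      have htt : t * t = 1 := by
        rw [ht]
        calc x⁻¹ * e x * (x⁻¹ * e x) = x⁻¹ * (e x * x⁻¹) * e x := by group
          _ = x⁻¹ * (x⁻¹ * e x) * e x := by rw [hAc _ hex _ (A.inv_mem hx)]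
          _ = (x * x)⁻¹ * (e x * e x) := by group
          _ = 1 := by rw [← map_mul, h1, inv_mul_cancel]
      have het : e t = t := hΩfix ((hΩ t).2 ⟨htA, htt⟩) e he
      have hext : e x = x * t := by rw [ht]; group
      have hpow : ∀ i : ℕ, (e ^ i) x = x * t ^ i := by
        intro i
        induction i with
        | zero => simp
        | succ i ihi =>
          rw [pow_succ', MulAut.mul_apply, ihi, map_mul, map_pow, het, hext, pow_succ']
          group
      have h2 := hpow (p ^ k)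
      rw [hk', MulAut.one_apply] at h2
      have h3 : t ^ (p ^ k) = 1 := by
        have : x * 1 = x * t ^ (p ^ k) := by rw [mul_one]; exact h2
        exact (mul_left_cancel this).symm
      rw [hm, pow_succ, pow_mul, pow_two, htt, one_pow, one_mul] at h3
      rw [hext, h3, mul_one]
  obtain ⟨j, hj⟩ := h.hW x
  exact claim j x hx hj

end Cfsg.Agent.Lib.Helper70.Ex
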