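import Mathlib
import Cfsg.Agent.Lib.Helper70.Ex.Basic
import Cfsg.Agent.Lib.Helper70.Meta.Main
import Cfsg.Agent.S0093
import Cfsg.Agent.S0121

set_option autoImplicit false

namespace Cfsg.Agent.Lib.Helper70.Ex

open Cfsg.Agent.S3738 (fx mem_fx)

/-- A critical subgroup `C` of `W` with centre `Z`, in elementwise form. -/
structure Crit (W : Type*) [Group W] (E : Subgroup (MulAut W)) (C Z : Subgroup W) : Prop where
  hZmem : ∀ x, x ∈ Z ↔ x ∈ C ∧ ∀ c ∈ C, c * x = x * c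
  invC : Inv E C
  invZ : Inv E Z
  sq : ∀ x ∈ C, x * x ∈ Z
  comm : ∀ c ∈ C, ∀ w : W, c * w * c⁻¹ * w⁻¹ ∈ Z
  cent : ∀ w : W, (∀ c ∈ C, c * w = w * c) → w ∈ C
  faith : ∀ e ∈ E, (∀ x ∈ C, e x = x) → e = 1

variable {W : Type*} [Group W] [Finite W] {p : ℕ} [Fact p.Prime] {E : Subgroup (MulAut W)}

theorem Ctx.exists_crit (h : Ctx W p E) : ∃ C Z : Subgroup W, Crit W E C Z := by
  have : Fact (Nat.Prime 2) := ⟨Nat.prime_two⟩
  obtain ⟨C, hCchar, hC1, hC2, hC3⟩ := Cfsg.Agent.S0093.result h.hW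
  obtain ⟨Z, hZdef⟩ : ∃ Z : Subgroup W, Z = C ⊓ Subgroup.centralizer (C : Set W) := ⟨_, rfl⟩
  have hZmem : ∀ x, x ∈ Z ↔ x ∈ C ∧ ∀ c ∈ C, c * x = x * c := by
    intro x
    rw [hZdef, Subgroup.mem_inf, Subgroup.mem_centralizer_iff]
    rfl
  have hZC : Z ≤ C := fun x hx => ((hZmem x).1 hx).1
  have hZc : ∀ r ∈ Z, ∀ u ∈ C, r * u = u * r := fun r hr u hu => (((hZmem r).1 hr).2 u hu).symm
  have hCα : ∀ (α : MulAut W) (x : W), α x ∈ C ↔ x ∈ C := by
    intro α x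
    have := (Subgroup.characteristic_iff_comap_eq.1 hCchar) α
    conv_rhs => rw [← this]
    rfl
  have hZα1 : ∀ (α : MulAut W) (x : W), x ∈ Z → α x ∈ Z := by
    intro α x hx
    rw [hZmem]
    refine ⟨(hCα α x).2 (hZC hx), ?_⟩
    intro c hc
    have h1 : α⁻¹ c ∈ C := (hCα _ _).2 hc
    have h2 := hZc x hx _ h1
    have h3 := congrArg α h2
    rw [map_mul, map_mul, MulAut.apply_inv_self] at h3
    exact h3.symm
  have hZα : ∀ (α : MulAut W) (x : W), α x ∈ Z ↔ x ∈ Z := by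
    intro α x
    refine ⟨fun h => ?_, hZα1 α x⟩
    have := hZα1 α⁻¹ _ h
    rwa [MulAut.inv_apply_self] at this
  refine ⟨C, Z, hZmem, fun e _ => hCα e, fun e _ => hZα e, ?_, ?_, ?_, ?_⟩
  · intro x hx
    rw [hZdef]
    refine ⟨C.mul_mem hx hx, ?_⟩
    apply hC1
    refine ⟨(⟨x, hx⟩ : C) ^ 2, Cfsg.Agent.Lib.Helper3.pow_p_mem_frattini (h.hW.to_subgroup C) _, ?_⟩
    simp [pow_two]
  · intro c hc w
    rw [hZdef]
    apply hC2
    have := Subgroup.commutator_mem_commutator hc (Subgroup.mem_top w)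
    rw [commutatorElement_def] at this
    exact this
  · intro w hw
    apply hC3
    rw [Subgroup.mem_centralizer_iff]
    exact hw
  · intro e he hx
    apply Cfsg.Agent.S0121.result h.hW C hCchar hC1 hC2 hC3 e _ hx
    obtain ⟨k, hk⟩ := (IsPGroup.iff_orderOf.1 h.hE) ⟨e, he⟩
    rw [Subgroup.orderOf_mk] at hk
    rw [hk]
    apply Nat.Coprime.pow_left
    exact (Nat.coprime_primes Fact.out Nat.prime_two).2 h.hp

variable {C Z : Subgroup W}

theorem Crit.hZC (hc : Crit W E C Z) : Z ≤ C := fun x hx => ((hc.hZmem x).1 hx).1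

theorem Crit.hZc (hc : Crit W E C Z) : ∀ r ∈ Z, ∀ u ∈ C, r * u = u * r :=
  fun r hr u hu => (((hc.hZmem r).1 hr).2 u hu).symm

theorem Crit.Z_fix (h : Ctx W p E) (hc : Crit W E C Z) : Z ≤ fixE E :=
  h.lemB Z hc.invZ (fun x hx y hy => hc.hZc x hx y (hc.hZC hy))

theorem Crit.exists_invol (h : Ctx W p E) (hc : Crit W E C Z) : ∃ z ∈ Z, z ≠ 1 ∧ z * z = 1 := by
  by_cases hZbot : ∀ x ∈ Z, x = 1
  · exfalso
    have hCZ : ∀ x ∈ C, x = 1 := by
      intro x hx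
      apply hZbot
      rw [hc.hZmem]
      refine ⟨hx, fun c hcc => ?_⟩
      have h1 := hZbot _ (hc.comm c hcc x)
      calc c * x = (c * x * c⁻¹ * x⁻¹) * (x * c) := by group
        _ = x * c := by rw [h1, one_mul]
    obtain ⟨e, he, he1⟩ := h.exists_ne_one
    apply he1
    apply hc.faith e he
    intro x hx
    rw [hCZ x hx, map_one]
  · push Not at hZbot
    obtain ⟨y, hyZ, hy1⟩ := hZbot
    obtain ⟨k, hk⟩ := h.hW y
    obtain ⟨j, hj1, hj2⟩ := Cfsg.Agent.Lib.Helper70.Rank2.exists_invol_pow k y hk hy1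
    exact ⟨y ^ j, Z.pow_mem hyZ j, hj1, hj2⟩

theorem Crit.no_invol (h : Ctx W p E) (hc : Crit W E C Z) (e : MulAut W) (he : e ∈ E) (he1 : e ≠ 1)
    (t : W) (htZ : t ∉ Z) (het : e t = t) : t * t ≠ 1 := by
  intro htt
  obtain ⟨z, hz, hz1, hzz⟩ := hc.exists_invol h
  have ht1 : t ≠ 1 := by
    rintro rfl
    exact htZ Z.one_mem
  have := h.hfix e he he1 t z ht1 htt hz1 hzz het (hc.Z_fix h hz e he)
  rw [this] at htZ
  exact htZ hz

theorem inv_inf_fx (h : Ctx W p E) {K : Subgroup W} (hK : Inv E K) (e : MulAut W) (he : e ∈ E) :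
    Inv E (K ⊓ fx e) := by
  intro f hf x
  rw [Subgroup.mem_inf, Subgroup.mem_inf, hK f hf x, mem_fx, mem_fx]
  have h3 : e (f x) = f (e x) := by
    have : (e * f) x = (f * e) x := by rw [h.comm e he f hf]
    exact this
  rw [h3]
  constructor
  · rintro ⟨h1, h2⟩
    exact ⟨h1, f.injective h2⟩
  · rintro ⟨h1, h2⟩
    exact ⟨h1, by rw [h2]⟩

theorem card_le_two_of_unique {G : Type*} [Group G] [Finite G] (V : Subgroup G)
    (hV : ∀ u ∈ V, ∀ v ∈ V, u ≠ 1 → v ≠ 1 → u = v) : Nat.card V ≤ 2 := by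
  classical
  by_cases hb : ∀ u ∈ V, u = 1
  · have : V = ⊥ := (Subgroup.eq_bot_iff_forall V).2 hb
    rw [this, Subgroup.card_bot]
    norm_num
  · push Not at hb
    obtain ⟨u, hu, hu1⟩ := hb
    have hsub : (V : Set G) ⊆ {1, u} := by
      intro v hv
      by_cases hv1 : v = 1
      · left; exact hv1
      · right; exact hV v hv u hu hv1 hu1
    have h1 := Set.ncard_le_ncard hsub (Set.toFinite _)
    have h2 : ({1, u} : Set G).ncard ≤ 2 := by
      have := Set.ncard_insert_le (1 : G) {u}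
      rw [Set.ncard_singleton] at this
      exact this
    have h3 : Nat.card V = (V : Set G).ncard := rfl
    omega

theorem Crit.relIndex_le (h : Ctx W p E) (hc : Crit W E C Z) (e : MulAut W) (he : e ∈ E)
    (he1 : e ≠ 1) : Z.relIndex (C ⊓ fx e) ≤ 4 := by
  by_contra hcon
  push Not at hcon
  have hZcomm : ∀ a ∈ Z, ∀ b ∈ Z, a * b = b * a := fun a ha b hb => hc.hZc a ha b (hc.hZC hb)
  obtain ⟨Ω, Z2, hΩ, hZ2, hidx⟩ := Cfsg.Agent.S3738.sq_index Z hZcomm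
  have hΩinv : Inv E Ω := by
    intro e he x
    rw [hΩ, hΩ, hc.invZ e he x, ← map_mul]
    constructor
    · rintro ⟨h1, h2⟩
      refine ⟨h1, ?_⟩
      rw [← map_one e] at h2
      exact e.injective h2
    · rintro ⟨h1, h2⟩
      exact ⟨h1, by rw [h2, map_one]⟩
  have hΩ2 : Nat.card Ω ≤ 2 :=
    card_le_two_of_unique Ω (h.lemA Ω hΩinv (fun v hv => ((hΩ v).1 hv).2)).2
  have hZfix := hc.Z_fix h
  have hZU : Z ≤ C ⊓ fx e := le_inf hc.hZC (fun x hx => hZfix hx e he)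
  obtain ⟨x, hxU, hxZ, hxx⟩ := Cfsg.Agent.S3738.exists_sq_mem' (C ⊓ fx e) Z Z Z2 hZU le_rfl
    (fun x hx => by
      obtain ⟨z, hz, rfl⟩ := (hZ2 x).1 hx
      exact Z.mul_mem hz hz)
    (fun r hr u hu => hc.hZc r hr u hu.1)
    (fun r hr => (hZ2 _).2 ⟨r, hr, rfl⟩)
    (fun x hx => hc.sq x hx.1)
    (fun x hx y hy => by
      have := hc.comm x⁻¹ (C.inv_mem hx.1) y
      rwa [inv_inv] at this)
    (fun x hx m hm => by
      rw [hZ2]
      refine ⟨m, hm, ?_⟩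
      have h1 : m * x = x * m := hc.hZc m hm x hx.1
      have h3 : m * m * (x * x) = x * x * (m * m) :=
        hc.hZc _ (Z.mul_mem hm hm) _ (C.mul_mem hx.1 hx.1)
      calc m * m = (m * m) * (x * x) * (x * x)⁻¹ := by group
        _ = (x * x) * (m * m) * (x * x)⁻¹ := by rw [h3]
        _ = x * (x * m) * m * (x * x)⁻¹ := by group
        _ = x * (m * x) * m * (x * x)⁻¹ := by rw [← h1]
        _ = x * m * (x * m) * (x * x)⁻¹ := by group)
    (by
      rw [hidx]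
      calc Nat.card Ω ^ 2 ≤ 2 ^ 2 := Nat.pow_le_pow_left hΩ2 2
        _ < Z.relIndex (C ⊓ fx e) := hcon)
  obtain ⟨w, hw, hww⟩ := (hZ2 _).1 hxx
  apply hc.no_invol h e he he1 (x * w⁻¹)
  · intro hmem
    apply hxZ
    have : x = x * w⁻¹ * w := by group
    rw [this]
    exact Z.mul_mem hmem hw
  · rw [map_mul, map_inv, hZfix hw e he, hxU.2]
  · have h1 : w⁻¹ * x = x * w⁻¹ := hc.hZc _ (Z.inv_mem hw) x hxU.1
    calc x * w⁻¹ * (x * w⁻¹) = x * (w⁻¹ * x) * w⁻¹ := by group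
      _ = x * (x * w⁻¹) * w⁻¹ := by rw [h1]
      _ = (x * x) * (w * w)⁻¹ := by group
      _ = 1 := by rw [hww, mul_inv_cancel]

end Cfsg.Agent.Lib.Helper70.Ex
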