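import Mathlib
import Cfsg.Agent.Lib.Helper70.Ex.Crit

set_option autoImplicit false

namespace Cfsg.Agent.Lib.Helper70.Ex

open Cfsg.Agent.S3738 (fx mem_fx)

variable {W : Type*} [Group W] [Finite W] {p : ℕ} [Fact p.Prime] {E : Subgroup (MulAut W)}
  {C Z : Subgroup W}

theorem Ctx.card_modEq (h : Ctx W p E) (K : Subgroup W) (hK : Inv E K) :
    Nat.card K ≡ Nat.card (K ⊓ fixE E : Subgroup W) [MOD p] := by
  let S : SubMulAction E W :=
    { carrier := K
      smul_mem' := fun e x hx => (hK e e.2 x).2 hx }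
  have h1 := h.hE.card_modEq_card_fixedPoints S
  have h2 : Nat.card S = Nat.card K := rfl
  have h3 : Nat.card (MulAction.fixedPoints E S) = Nat.card (K ⊓ fixE E : Subgroup W) := by
    apply Nat.card_congr
    exact
      { toFun := fun y => ⟨y.1.1, y.1.2, fun e he => congrArg Subtype.val (y.2 ⟨e, he⟩)⟩
        invFun := fun y => ⟨⟨y.1, y.2.1⟩, fun e => Subtype.ext (y.2.2 e.1 e.2)⟩
        left_inv := fun _ => rfl
        right_inv := fun _ => rfl }
  rw [h2, h3] at h1
  exact h1

theorem card_eq_mul_relIndex {G : Type*} [Group G] {A B : Subgroup G} (hAB : A ≤ B) :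
    Nat.card B = Nat.card A * A.relIndex B := by
  have := Subgroup.relIndex_mul_relIndex ⊥ A B bot_le hAB
  rw [Subgroup.relIndex_bot_left, Subgroup.relIndex_bot_left] at this
  exact this.symm

theorem Crit.fix_eq (h : Ctx W p E) (hc : Crit W E C Z) : C ⊓ fixE E = Z := by
  apply le_antisymm _ (le_inf hc.hZC (hc.Z_fix h))
  intro x hx
  by_contra hxZ
  rw [Subgroup.mem_inf] at hx
  obtain ⟨hxC, hxE⟩ := hx
  have hex : ∃ y0 ∈ C, y0 * x ≠ x * y0 := by
    by_contra hcon
    push Not at hcon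
    exact hxZ ((hc.hZmem x).2 ⟨hxC, hcon⟩)
  obtain ⟨y0, hy0, hy0x⟩ := hex
  have hZfix := hc.Z_fix h
  have hKmem : ∀ g, g ∈ C ⊓ Subgroup.centralizer {x} ↔ g ∈ C ∧ x * g = g * x := by
    intro g
    rw [Subgroup.mem_inf, Subgroup.mem_centralizer_iff]
    constructor
    · rintro ⟨h1, h2⟩
      exact ⟨h1, h2 x rfl⟩
    · rintro ⟨h1, h2⟩
      refine ⟨h1, fun w hw => ?_⟩
      rw [Set.mem_singleton_iff] at hw
      rw [hw]
      exact h2
  obtain ⟨n, hn, hfixn⟩ := exists_fixed_in_coset E h.hE (C ⊓ Subgroup.centralizer {x})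
    (h.not_dvd _) y0 (by
      intro e he n hn
      rw [hKmem] at hn ⊢
      have hey0 : e y0 ∈ C := (hc.invC e he y0).2 hy0
      have hen : e n ∈ C := (hc.invC e he n).2 hn.1
      refine ⟨?_, ?_⟩
      · rw [map_mul]
        exact C.mul_mem (C.inv_mem hy0) (C.mul_mem hey0 hen)
      · obtain ⟨c, hcdef⟩ : ∃ c, c = y0 * x * y0⁻¹ * x⁻¹ := ⟨_, rfl⟩
        have hcZ : c ∈ Z := by rw [hcdef]; exact hc.comm y0 hy0 x
        have e1 : y0 * x = c * x * y0 := by rw [hcdef]; group
        have e2 : e y0 * x = c * x * e y0 := by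
          have := congrArg e e1
          rw [map_mul, map_mul, map_mul, hxE e he, hZfix hcZ e he] at this
          exact this
        have e3 : x * y0⁻¹ = y0⁻¹ * (c * x) := by
          calc x * y0⁻¹ = y0⁻¹ * (y0 * x) * y0⁻¹ := by group
            _ = y0⁻¹ * (c * x * y0) * y0⁻¹ := by rw [e1]
            _ = _ := by group
        have e4 : x * e n = e n * x := by
          have := congrArg e hn.2
          rw [map_mul, map_mul, hxE e he] at this
          exact this
        rw [map_mul]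
        calc x * (y0⁻¹ * (e y0 * e n)) = (x * y0⁻¹) * e y0 * e n := by group
          _ = y0⁻¹ * (c * x * e y0) * e n := by rw [e3]; group
          _ = y0⁻¹ * (e y0 * x) * e n := by rw [e2]
          _ = y0⁻¹ * e y0 * (x * e n) := by group
          _ = y0⁻¹ * e y0 * (e n * x) := by rw [e4]
          _ = _ := by group)
  rw [hKmem] at hn
  obtain ⟨y, hy⟩ : ∃ y, y = y0 * n := ⟨_, rfl⟩
  rw [← hy] at hfixn
  have hyC : y ∈ C := by rw [hy]; exact C.mul_mem hy0 hn.1
  have hyx : x * y ≠ y * x := by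
    intro hcom
    apply hy0x
    rw [hy] at hcom
    have h1 : x * y0 * n = y0 * x * n := by
      calc x * y0 * n = x * (y0 * n) := by group
        _ = y0 * n * x := hcom
        _ = y0 * (n * x) := by group
        _ = y0 * (x * n) := by rw [hn.2]
        _ = _ := by group
    exact (mul_right_cancel h1).symm
  -- the chain
  have hlt1 : Z < (C ⊓ fixE E) ⊓ Subgroup.centralizer {x} := by
    refine lt_of_le_of_ne ?_ ?_
    · intro z hz
      refine Subgroup.mem_inf.2 ⟨⟨hc.hZC hz, hZfix hz⟩, ?_⟩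
      rw [Subgroup.mem_centralizer_iff]
      intro w hw
      rw [Set.mem_singleton_iff] at hw
      rw [hw]
      exact (hc.hZc z hz x hxC).symm
    · intro heq
      apply hxZ
      rw [heq]
      refine Subgroup.mem_inf.2 ⟨⟨hxC, hxE⟩, ?_⟩
      rw [Subgroup.mem_centralizer_iff]
      intro w hw
      rw [Set.mem_singleton_iff] at hw
      rw [hw]
  have hlt2 : (C ⊓ fixE E) ⊓ Subgroup.centralizer {x} < C ⊓ fixE E := by
    refine lt_of_le_of_ne inf_le_left ?_
    intro heq
    apply hyx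
    have : y ∈ (C ⊓ fixE E) ⊓ Subgroup.centralizer {x} := by
      rw [heq]
      exact ⟨hyC, hfixn⟩
    exact Subgroup.mem_centralizer_iff.1 this.2 x rfl
  have c1 := Cfsg.Agent.Lib.Helper77.two_mul_card_le_of_lt hlt1
  have c2 := Cfsg.Agent.Lib.Helper77.two_mul_card_le_of_lt hlt2
  have hCle : C ≤ C ⊓ fixE E := by
    apply h.gen C hc.invC
    intro e he he1
    have hle : C ⊓ fixE E ≤ C ⊓ fx e := inf_le_inf_left _ (fun w hw => hw e he)
    have hZU : Z ≤ C ⊓ fx e := le_inf hc.hZC (fun x hx => hZfix hx e he)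
    have c3 := card_eq_mul_relIndex hZU
    have c4 := hc.relIndex_le h e he he1
    have c5 : Nat.card (C ⊓ fx e : Subgroup W) ≤ Nat.card Z * 4 := by
      rw [c3]
      exact Nat.mul_le_mul_left _ c4
    have := Subgroup.eq_of_le_of_card_ge hle (by omega)
    rw [this]
  obtain ⟨e, he, he1⟩ := h.exists_ne_one
  exact he1 (hc.faith e he (fun w hw => (hCle hw).2 e he))

theorem Crit.four (h : Ctx W p E) (hc : Crit W E C Z) (K : Subgroup W) (hK : Inv E K) (hZK : Z ≤ K)
    (hKC : K ≤ C) (hne : ¬ K ≤ Z) (h4 : Z.relIndex K ≤ 4) : p = 3 ∧ Z.relIndex K = 4 := by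
  have : Fact (Nat.Prime 2) := ⟨Nat.prime_two⟩
  have h1 := h.card_modEq K hK
  have h2 : K ⊓ fixE E = Z := by
    apply le_antisymm
    · rw [← hc.fix_eq h]
      exact inf_le_inf_right _ hKC
    · exact le_inf hZK (hc.Z_fix h)
  rw [h2, card_eq_mul_relIndex hZK] at h1
  have hr1 : Z.relIndex K ≠ 1 := fun e => hne (Subgroup.relIndex_eq_one.1 e)
  have hr0 : Z.relIndex K ≠ 0 := Subgroup.index_ne_zero_of_finite
  have hdvd : p ∣ Nat.card Z * (Z.relIndex K - 1) := by
    have h3 := (Nat.modEq_iff_dvd' (by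
      calc Nat.card Z = Nat.card Z * 1 := (mul_one _).symm
        _ ≤ Nat.card Z * Z.relIndex K := Nat.mul_le_mul_left _ (by omega))).1 h1.symm
    rw [Nat.mul_sub, mul_one]
    exact h3
  have hdvd2 : p ∣ Z.relIndex K - 1 :=
    ((Fact.out : p.Prime).dvd_mul.1 hdvd).resolve_left (h.not_dvd Z)
  have hr3 : Z.relIndex K ≠ 3 := by
    intro e
    obtain ⟨n, hn⟩ := IsPGroup.iff_card.1 (h.hW.to_subgroup K)
    have h5 : 3 ∣ 2 ^ n := by
      rw [← hn, card_eq_mul_relIndex hZK, e]
      exact Dvd.intro_left _ rfl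
    have := Nat.Prime.dvd_of_dvd_pow Nat.prime_three h5
    omega
  have hp1 := (Fact.out : p.Prime).two_le
  have hcases : Z.relIndex K = 2 ∨ Z.relIndex K = 4 := by omega
  rcases hcases with e | e
  · rw [e] at hdvd2
    have := Nat.le_of_dvd (by norm_num) hdvd2
    omega
  · rw [e] at hdvd2
    refine ⟨?_, e⟩
    exact (Nat.prime_dvd_prime_iff_eq Fact.out Nat.prime_three).1 hdvd2

end Cfsg.Agent.Lib.Helper70.Ex
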