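import Mathlib
import Cfsg.Agent.Lib.Helper70.Ex.Fix

set_option autoImplicit false

namespace Cfsg.Agent.Lib.Helper70.Ex

open Cfsg.Agent.S3738 (fx mem_fx)

variable {W : Type*} [Group W] [Finite W] {p : ℕ} [Fact p.Prime] {E : Subgroup (MulAut W)}
  {C Z : Subgroup W}

theorem card_sdiff_add {G : Type*} [Group G] [Finite G] {A B : Subgroup G} (hAB : A ≤ B) :
    Nat.card {y // y ∈ B ∧ y ∉ A} + Nat.card A = Nat.card B := by
  have h1 := Set.ncard_sdiff_add_ncard_of_subset (s := (A : Set G)) (t := (B : Set G)) hAB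
    (Set.toFinite _)
  exact h1

/-- If `e ≠ 1` fixes a point of `D \ Z`, where `D` is invariant with `|D : Z| = 4`, then
`D = C_C(e)`. -/
theorem Crit.eq_of_fix (h : Ctx W p E) (hc : Crit W E C Z) (D : Subgroup W) (hD : Inv E D)
    (hZD : Z ≤ D) (hDC : D ≤ C) (hD4 : Z.relIndex D = 4) (e : MulAut W) (he : e ∈ E) (he1 : e ≠ 1)
    (y : W) (hy : y ∈ D) (hyZ : y ∉ Z) (hey : e y = y) : C ⊓ fx e = D := by
  have hZfix := hc.Z_fix h
  have hZK : Z ≤ D ⊓ fx e := le_inf hZD (fun x hx => hZfix hx e he)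
  have hmul := Subgroup.relIndex_mul_relIndex Z (D ⊓ fx e) D hZK inf_le_left
  have hpos : (D ⊓ fx e).relIndex D ≠ 0 := Subgroup.index_ne_zero_of_finite
  have h4 : Z.relIndex (D ⊓ fx e) ≤ 4 := by
    rw [← hD4, ← hmul]
    exact Nat.le_mul_of_pos_right _ (Nat.pos_of_ne_zero hpos)
  have h5 := (hc.four h (D ⊓ fx e) (inv_inf_fx h hD e he) hZK (inf_le_left.trans hDC)
    (fun hle => hyZ (hle ⟨hy, hey⟩)) h4).2
  rw [h5, hD4] at hmul
  have h6 : (D ⊓ fx e).relIndex D = 1 := by omega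
  have hDle : D ≤ C ⊓ fx e := le_inf hDC ((Subgroup.relIndex_eq_one.1 h6).trans inf_le_right)
  have hmul2 := Subgroup.relIndex_mul_relIndex Z D (C ⊓ fx e) hZD hDle
  have h7 := hc.relIndex_le h e he he1
  have hpos2 : D.relIndex (C ⊓ fx e) ≠ 0 := Subgroup.index_ne_zero_of_finite
  rw [hD4] at hmul2
  have h8 : D.relIndex (C ⊓ fx e) = 1 := by
    by_contra hne
    have : 2 ≤ D.relIndex (C ⊓ fx e) := by omega
    omega
  exact le_antisymm (Subgroup.relIndex_eq_one.1 h8) hDle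

theorem Crit.nine (h : Ctx W p E) (hc : Crit W E C Z) : p = 3 ∧ Nat.card E = 9 ∧
    ∃ e1 ∈ E, e1 ≠ 1 ∧ Z.relIndex (C ⊓ fx e1) = 4 ∧ ¬ C ≤ C ⊓ fx e1 := by
  have : Fact (Nat.Prime 2) := ⟨Nat.prime_two⟩
  have hZfix := hc.Z_fix h
  have hZU : ∀ e ∈ E, Z ≤ C ⊓ fx e := fun e he => le_inf hc.hZC (fun x hx => hZfix hx e he)
  obtain ⟨e1, he1, he11, hD1⟩ : ∃ e1 ∈ E, e1 ≠ 1 ∧ ¬ C ⊓ fx e1 ≤ Z := by
    by_contra hcon
    push Not at hcon
    have hCZ := h.gen C hc.invC Z hcon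
    obtain ⟨e, he, he1⟩ := h.exists_ne_one
    exact he1 (hc.faith e he (fun w hw => hZfix (hCZ hw) e he))
  have hinv1 := inv_inf_fx h hc.invC e1 he1
  obtain ⟨hp3, h14⟩ := hc.four h _ hinv1 (hZU e1 he1) inf_le_left hD1 (hc.relIndex_le h e1 he1 he11)
  have hCD1 : ¬ C ≤ C ⊓ fx e1 := fun hle => he11 (hc.faith e1 he1 (fun w hw => (hle hw).2))
  obtain ⟨e2, he2, he21, hD2⟩ : ∃ e2 ∈ E, e2 ≠ 1 ∧ ¬ C ⊓ fx e2 ≤ C ⊓ fx e1 := by
    by_contra hcon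
    push Not at hcon
    exact hCD1 (h.gen C hc.invC _ hcon)
  have hinv2 := inv_inf_fx h hc.invC e2 he2
  obtain ⟨-, h24⟩ := hc.four h _ hinv2 (hZU e2 he2) inf_le_left
    (fun hle => hD2 (hle.trans (hZU e1 he1))) (hc.relIndex_le h e2 he2 he21)
  refine ⟨hp3, ?_, e1, he1, he11, h14, hCD1⟩
  have hdvd := Cfsg.Agent.Lib.Helper70.Rank2.dvd_card_of_free (A := E) (X := W × W)
    (fun q => (q.1 ∈ C ⊓ fx e1 ∧ q.1 ∉ Z) ∧ (q.2 ∈ C ⊓ fx e2 ∧ q.2 ∉ Z))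
    (by
      rintro e ⟨y1, y2⟩ ⟨⟨a1, a2⟩, ⟨b1, b2⟩⟩
      exact ⟨⟨(hinv1 e e.2 y1).2 a1, fun hh => a2 ((hc.invZ e e.2 y1).1 hh)⟩,
        ⟨(hinv2 e e.2 y2).2 b1, fun hh => b2 ((hc.invZ e e.2 y2).1 hh)⟩⟩)
    (by
      rintro e ⟨y1, y2⟩ ⟨⟨a1, a2⟩, ⟨b1, b2⟩⟩ hfix
      by_contra hne
      have hne' : (e : MulAut W) ≠ 1 := fun hh => hne (Subtype.ext hh)
      have f1 : (e : MulAut W) y1 = y1 := congrArg Prod.fst hfix
      have f2 : (e : MulAut W) y2 = y2 := congrArg Prod.snd hfix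
      have g1 := hc.eq_of_fix h _ hinv1 (hZU e1 he1) inf_le_left h14 e e.2 hne' y1 a1 a2 f1
      have g2 := hc.eq_of_fix h _ hinv2 (hZU e2 he2) inf_le_left h24 e e.2 hne' y2 b1 b2 f2
      apply hD2
      rw [← g2, g1])
  have hc1 := card_sdiff_add (hZU e1 he1)
  have hc2 := card_sdiff_add (hZU e2 he2)
  rw [card_eq_mul_relIndex (hZU e1 he1), h14] at hc1
  rw [card_eq_mul_relIndex (hZU e2 he2), h24] at hc2
  have hprod : Nat.card {q : W × W // (q.1 ∈ C ⊓ fx e1 ∧ q.1 ∉ Z) ∧ (q.2 ∈ C ⊓ fx e2 ∧ q.2 ∉ Z)} =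
      Nat.card {y // y ∈ C ⊓ fx e1 ∧ y ∉ Z} * Nat.card {y // y ∈ C ⊓ fx e2 ∧ y ∉ Z} := by
    rw [← Nat.card_prod]
    exact Nat.card_congr (Equiv.subtypeProdEquivProd (p := fun y : W => y ∈ C ⊓ fx e1 ∧ y ∉ Z)
      (q := fun y : W => y ∈ C ⊓ fx e2 ∧ y ∉ Z))
  rw [hprod] at hdvd
  have e1' : Nat.card {y // y ∈ C ⊓ fx e1 ∧ y ∉ Z} = 3 * Nat.card Z := by omega
  have e2' : Nat.card {y // y ∈ C ⊓ fx e2 ∧ y ∉ Z} = 3 * Nat.card Z := by omega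
  rw [e1', e2'] at hdvd
  obtain ⟨k, hk⟩ := IsPGroup.iff_card.1 h.hE
  obtain ⟨a, ha⟩ := IsPGroup.iff_card.1 (h.hW.to_subgroup Z)
  rw [hp3] at hk
  have hdvd9 : Nat.card E ∣ 9 := by
    have h1 : Nat.card E ∣ 9 * (Nat.card Z * Nat.card Z) := by
      have : 3 * Nat.card Z * (3 * Nat.card Z) = 9 * (Nat.card Z * Nat.card Z) := by ring
      rwa [this] at hdvd
    apply Nat.Coprime.dvd_of_dvd_mul_right _ h1
    rw [hk, ha, ← pow_add]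
    apply Nat.Coprime.pow
    norm_num
  have hle : Nat.card E ≤ 9 := Nat.le_of_dvd (by norm_num) hdvd9
  have hne1 : Nat.card E ≠ 1 := by
    intro e
    apply h.hnc
    have : Subsingleton E := (Nat.card_eq_one_iff_unique.1 e).1
    exact isCyclic_of_subsingleton
  have hne3 : Nat.card E ≠ 3 := by
    intro e
    apply h.hnc
    have : Fact (Nat.Prime 3) := ⟨Nat.prime_three⟩
    exact isCyclic_of_prime_card e
  have h9 : (9 : ℕ) = 3 ^ 2 := by norm_num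
  rw [h9] at hdvd9
  obtain ⟨j, hj, hj2⟩ := (Nat.dvd_prime_pow Nat.prime_three).1 hdvd9
  interval_cases j
  · exact absurd hj2 hne1
  · exact absurd hj2 hne3
  · exact hj2

end Cfsg.Agent.Lib.Helper70.Ex
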