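import Mathlib
import Cfsg.Agent.Lib.Helper70.Ex.Nine

set_option autoImplicit false

namespace Cfsg.Agent.Lib.Helper70.Ex

open Cfsg.Agent.S3738 (fx mem_fx)

variable {W : Type*} [Group W] [Finite W] {p : ℕ} [Fact p.Prime] {E : Subgroup (MulAut W)}
  {C Z : Subgroup W}

theorem Crit.card_Z (h : Ctx W p E) (hc : Crit W E C Z) : Nat.card Z = 2 := by
  obtain ⟨-, -, e1, he1, he11, h14, -⟩ := hc.nine h
  have hZfix := hc.Z_fix h
  have hinv1 := inv_inf_fx h hc.invC e1 he1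
  have hna : ∃ x ∈ C ⊓ fx e1, ∃ y ∈ C ⊓ fx e1, x * y ≠ y * x := by
    by_contra hcon
    push Not at hcon
    have h1 := h.lemB _ hinv1 hcon
    have h2 : C ⊓ fx e1 ≤ Z := by
      rw [← hc.fix_eq h]
      exact le_inf inf_le_left h1
    rw [Subgroup.relIndex_eq_one.2 h2] at h14
    omega
  obtain ⟨x, hx, y, hy, hxy⟩ := hna
  obtain ⟨c, hcdef⟩ : ∃ c, c = x * y * x⁻¹ * y⁻¹ := ⟨_, rfl⟩
  have hcZ : c ∈ Z := by rw [hcdef]; exact hc.comm x hx.1 y
  have hxyc : x * y = c * (y * x) := by rw [hcdef]; group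
  have hc1 : c ≠ 1 := by
    intro e
    rw [e, one_mul] at hxyc
    exact hxy hxyc
  have hcc : ∀ u ∈ C, c * u = u * c := hc.hZc c hcZ
  have hc2 : c * c = 1 := by
    have h1 : x * x * y = y * (x * x) := hc.hZc _ (hc.sq x hx.1) y hy.1
    have h2 : x * x * y = c * c * (y * (x * x)) := by
      calc x * x * y = x * (x * y) := by group
        _ = x * (c * (y * x)) := by rw [hxyc]
        _ = (x * c) * (y * x) := by group
        _ = (c * x) * (y * x) := by rw [hcc x hx.1]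
        _ = c * (x * y) * x := by group
        _ = c * (c * (y * x)) * x := by rw [hxyc]
        _ = _ := by group
    rw [h1] at h2
    have h3 : 1 * (y * (x * x)) = c * c * (y * (x * x)) := by rw [one_mul]; exact h2
    exact (mul_right_cancel h3).symm
  have hZcomm : ∀ a ∈ Z, ∀ b ∈ Z, a * b = b * a := fun a ha b hb => hc.hZc a ha b (hc.hZC hb)
  obtain ⟨Ω, Z2, hΩ, hZ2, hidx⟩ := Cfsg.Agent.S3738.sq_index Z hZcomm
  have hΩinv : Inv E Ω := by
    intro e he x
    rw [hΩ, hΩ, hc.invZ e he x, ← map_mul]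
    constructor
    · rintro ⟨h1, h2⟩
      refine ⟨h1, ?_⟩
      rw [← map_one e] at h2
      exact e.injective h2
    · rintro ⟨h1, h2⟩
      exact ⟨h1, by rw [h2, map_one]⟩
  have huniq := (h.lemA Ω hΩinv (fun v hv => ((hΩ v).1 hv).2)).2
  have hΩ2 : Nat.card Ω ≤ 2 := card_le_two_of_unique Ω huniq
  have hcΩ : c ∈ Ω := (hΩ c).2 ⟨hcZ, hc2⟩
  have hΩ2' : Nat.card Ω = 2 := by
    have h1 : (⊥ : Subgroup W) < Ω := by
      rw [bot_lt_iff_ne_bot]
      intro e
      rw [e, Subgroup.mem_bot] at hcΩ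
      exact hc1 hcΩ
    have := Cfsg.Agent.Lib.Helper77.two_mul_card_le_of_lt h1
    rw [Subgroup.card_bot] at this
    omega
  rw [hΩ2'] at hidx
  -- no square of an element outside Z lies in Z2
  have hnsq : ∀ u ∈ C ⊓ fx e1, u ∉ Z → u * u ∉ Z2 := by
    intro u hu huZ huu
    obtain ⟨w, hw, hww⟩ := (hZ2 _).1 huu
    apply hc.no_invol h e1 he1 he11 (u * w⁻¹)
    · intro hmem
      apply huZ
      have : u = u * w⁻¹ * w := by group
      rw [this]
      exact Z.mul_mem hmem hw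
    · rw [map_mul, map_inv, hZfix hw e1 he1, hu.2]
    · have h1 : w⁻¹ * u = u * w⁻¹ := hc.hZc _ (Z.inv_mem hw) u hu.1
      calc u * w⁻¹ * (u * w⁻¹) = u * (w⁻¹ * u) * w⁻¹ := by group
        _ = u * (u * w⁻¹) * w⁻¹ := by rw [h1]
        _ = (u * u) * (w * w)⁻¹ := by group
        _ = 1 := by rw [hww, mul_inv_cancel]
  have hxZ : x ∉ Z := fun hh => hxy (hc.hZc x hh y hy.1)
  have hyZ : y ∉ Z := fun hh => hxy (hc.hZc y hh x hx.1).symm
  have hxyZ : x * y ∉ Z := by
    intro hh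
    apply hxy
    have h1 := hc.hZc _ hh x hx.1
    have h2 : x * (y * x) = x * (x * y) := by
      calc x * (y * x) = x * y * x := by group
        _ = x * (x * y) := h1
    exact (mul_left_cancel h2).symm
  by_contra hne
  -- an element of Z other than 1, c
  have hexw : ∃ w ∈ Z, w ≠ 1 ∧ w ≠ c := by
    by_contra hcon
    push Not at hcon
    apply hne
    have h1 : Z ≤ Ω := by
      intro w hw
      by_cases hw1 : w = 1
      · rw [hw1]; exact Ω.one_mem
      · rw [hcon w hw hw1]; exact hcΩ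
    have h2 : Ω ≤ Z := fun w hw => ((hΩ w).1 hw).1
    rw [le_antisymm h1 h2]
    exact hΩ2'
  obtain ⟨w, hw, hw1, hwc⟩ := hexw
  have hcZ2 : c ∈ Z2 := by
    obtain ⟨k, hk⟩ := h.hW w
    obtain ⟨j, hj1, hj2⟩ := Cfsg.Agent.Lib.Helper70.Rank2.exists_invol_pow k w hk hw1
    have hwj : w ^ j = c := huniq _ ((hΩ _).2 ⟨Z.pow_mem hw j, hj2⟩) c hcΩ hj1 hc1
    rcases Nat.even_or_odd' j with ⟨m, rfl | rfl⟩
    · rw [hZ2]
      refine ⟨w ^ m, Z.pow_mem hw m, ?_⟩
      rw [← hwj, ← pow_add]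
      congr 1
      ring
    · exfalso
      have h1 : (w * w) ^ ((2 : ℤ) * (m : ℤ) + 1) = 1 := by
        have h2 : (w * w) ^ (2 * m + 1) = 1 := by
          rw [(Commute.refl w).mul_pow]
          exact hj2
        have h3 : ((2 : ℤ) * (m : ℤ) + 1) = ((2 * m + 1 : ℕ) : ℤ) := by push_cast; ring
        rw [h3, zpow_natCast]
        exact h2
      have h4 := Cfsg.Agent.Lib.Helper70.Meta.eq_one_of_odd_zpow h.hW _ _ h1
      exact hwc (huniq w ((hΩ w).2 ⟨hw, h4⟩) c hcΩ hw1 hc1)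
  have hZ2Z : Z2 ≤ Z := by
    intro v hv
    obtain ⟨z, hz, rfl⟩ := (hZ2 v).1 hv
    exact Z.mul_mem hz hz
  have hidx' : (Z2.subgroupOf Z).index = 2 := hidx
  have hX := hnsq x hx hxZ
  have hY := hnsq y hy hyZ
  have hXY := hnsq (x * y) (Subgroup.mul_mem _ hx hy) hxyZ
  have hmem := (Subgroup.mul_mem_iff_of_index_two hidx'
    (a := (⟨x * x, hc.sq x hx.1⟩ : Z)) (b := (⟨y * y, hc.sq y hy.1⟩ : Z))).2 (by
      rw [Subgroup.mem_subgroupOf, Subgroup.mem_subgroupOf]
      exact ⟨fun hh => absurd hh hX, fun hh => absurd hh hY⟩)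
  rw [Subgroup.mem_subgroupOf] at hmem
  have hmem' : x * x * (y * y) ∈ Z2 := hmem
  apply hXY
  have hyx : y * x = c * (x * y) := by
    rw [hxyc, ← mul_assoc, hc2, one_mul]
  have e : x * y * (x * y) = c * (x * x * (y * y)) := by
    calc x * y * (x * y) = x * (y * x) * y := by group
      _ = x * (c * (x * y)) * y := by rw [hyx]
      _ = (x * c) * (x * y * y) := by group
      _ = (c * x) * (x * y * y) := by rw [hcc x hx.1]
      _ = c * (x * x * (y * y)) := by group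
  rw [e]
  exact Z2.mul_mem hcZ2 hmem'

end Cfsg.Agent.Lib.Helper70.Ex
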