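import Mathlib
import Cfsg.Agent.Lib.Helper70.Ex.CardZ

set_option autoImplicit false

namespace Cfsg.Agent.Lib.Helper70.Ex

open Cfsg.Agent.S3738 (fx mem_fx)

variable {W : Type*} [Group W] [Finite W] {p : ℕ} [Fact p.Prime] {E : Subgroup (MulAut W)}
  {C Z : Subgroup W}

theorem Crit.exists_z (h : Ctx W p E) (hc : Crit W E C Z) :
    ∃ z ∈ Z, z ≠ 1 ∧ z * z = 1 ∧ (∀ v ∈ Z, v = 1 ∨ v = z) ∧ ∀ w : W, z * w = w * z := by
  obtain ⟨z, hz, hz1, hzz⟩ := hc.exists_invol h
  have hcard := hc.card_Z h
  have hall : ∀ v ∈ Z, v = 1 ∨ v = z := by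
    intro v hv
    by_contra hcon
    push Not at hcon
    classical
    have hsub : (({1, z, v} : Finset W) : Set W) ⊆ (Z : Set W) := by
      intro a ha
      simp only [Finset.coe_insert, Finset.coe_singleton, Set.mem_insert_iff,
        Set.mem_singleton_iff] at ha
      rcases ha with rfl | rfl | rfl
      · exact Z.one_mem
      · exact hz
      · exact hv
    have h3 : ({1, z, v} : Finset W).card = 3 := by
      have m1 : (1 : W) ∉ ({z, v} : Finset W) := by
        simp only [Finset.mem_insert, Finset.mem_singleton, not_or]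
        exact ⟨fun e => hz1 e.symm, fun e => hcon.1 e.symm⟩
      have m2 : z ∉ ({v} : Finset W) := by
        simp only [Finset.mem_singleton]
        exact fun e => hcon.2 e.symm
      rw [Finset.card_insert_of_notMem m1, Finset.card_insert_of_notMem m2, Finset.card_singleton]
    have h5 := Set.ncard_le_ncard hsub (Set.toFinite _)
    rw [Set.ncard_coe_finset, h3] at h5
    have h6 : Nat.card Z = (Z : Set W).ncard := rfl
    omega
  refine ⟨z, hz, hz1, hzz, hall, ?_⟩
  intro w
  rcases hall _ (hc.comm z (hc.hZC hz) w) with h1 | h1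
  · calc z * w = (z * w * z⁻¹ * w⁻¹) * (w * z) := by group
      _ = w * z := by rw [h1, one_mul]
  · exfalso
    apply hz1
    have h2 : w * z⁻¹ * w⁻¹ = 1 := by
      have : z * (w * z⁻¹ * w⁻¹) = z * 1 := by
        rw [mul_one]
        calc z * (w * z⁻¹ * w⁻¹) = z * w * z⁻¹ * w⁻¹ := by group
          _ = z := h1
      exact mul_left_cancel this
    have h3 : z⁻¹ = 1 := by
      calc z⁻¹ = w⁻¹ * (w * z⁻¹ * w⁻¹) * w := by group
        _ = 1 := by rw [h2]; group
    exact inv_eq_one.1 h3

theorem Crit.index_centralizer_le (h : Ctx W p E) (hc : Crit W E C Z) (c : W) (hcC : c ∈ C) :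
    (Subgroup.centralizer {c} : Subgroup W).index ≤ 2 := by
  obtain ⟨z, hz, hz1, hzz, hall, hzc⟩ := hc.exists_z h
  have hmem : ∀ w : W, w ∈ Subgroup.centralizer {c} ↔ c * w = w * c := by
    intro w
    rw [Subgroup.mem_centralizer_iff]
    constructor
    · intro h1
      exact h1 c rfl
    · intro h1 v hv
      rw [Set.mem_singleton_iff] at hv
      rw [hv]
      exact h1
  have hnot : ∀ w : W, w ∉ Subgroup.centralizer {c} → c * w = z * (w * c) := by
    intro w hw
    rcases hall _ (hc.comm c hcC w) with h1 | h1
    · exfalso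
      apply hw
      rw [hmem]
      calc c * w = (c * w * c⁻¹ * w⁻¹) * (w * c) := by group
        _ = w * c := by rw [h1, one_mul]
    · calc c * w = (c * w * c⁻¹ * w⁻¹) * (w * c) := by group
        _ = z * (w * c) := by rw [h1]
  by_cases htop : (Subgroup.centralizer {c} : Subgroup W) = ⊤
  · rw [htop, Subgroup.index_top]
    norm_num
  · obtain ⟨a, ha⟩ : ∃ a, a ∉ (Subgroup.centralizer {c} : Subgroup W) := by
      by_contra hcon
      push Not at hcon
      exact htop (eq_top_iff.2 fun g _ => hcon g)
    have h2 : (Subgroup.centralizer {c} : Subgroup W).index = 2 := by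
      rw [Subgroup.index_eq_two_iff]
      refine ⟨a, fun b => ?_⟩
      by_cases hb : b ∈ (Subgroup.centralizer {c} : Subgroup W)
      · right
        refine ⟨hb, fun hba => ha ?_⟩
        have : a = b⁻¹ * (b * a) := by group
        rw [this]
        exact Subgroup.mul_mem _ (Subgroup.inv_mem _ hb) hba
      · left
        refine ⟨?_, hb⟩
        rw [hmem]
        have e1 := hnot a ha
        have e2 := hnot b hb
        calc c * (b * a) = (c * b) * a := by group
          _ = z * (b * c) * a := by rw [e2]
          _ = z * b * (c * a) := by group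
          _ = z * b * (z * (a * c)) := by rw [e1]
          _ = z * (b * z) * (a * c) := by group
          _ = z * (z * b) * (a * c) := by rw [hzc b]
          _ = (z * z) * (b * a * c) := by group
          _ = b * a * c := by rw [hzz, one_mul]
    omega

theorem Crit.eq_top (h : Ctx W p E) (hc : Crit W E C Z) : C = ⊤ := by
  obtain ⟨z, hz, hz1, hzz, hall, hzc⟩ := hc.exists_z h
  -- maximal K with the index bound
  obtain ⟨K, hKmax⟩ := Set.Finite.exists_maximal
    (s := {K : Subgroup W | Z ≤ K ∧ K ≤ C ∧
      (Subgroup.centralizer (K : Set W)).index ≤ Z.relIndex K}) (Set.toFinite _)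
    ⟨Z, le_rfl, hc.hZC, by
      have h1 : Subgroup.centralizer (Z : Set W) = ⊤ := by
        rw [eq_top_iff]
        intro w _
        rw [Subgroup.mem_centralizer_iff]
        intro v hv
        rcases hall v hv with rfl | rfl
        · simp
        · exact hzc w
      rw [h1, Subgroup.index_top, Subgroup.relIndex_self]⟩
  obtain ⟨⟨hZK, hKC, hKidx⟩, hmax⟩ := hKmax
  have hKeq : K = C := by
    by_contra hne
    obtain ⟨c, hcC, hcK⟩ : ∃ c ∈ C, c ∉ K := by
      by_contra hcon
      push Not at hcon
      exact hne (le_antisymm hKC hcon)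
    have hlt : K < K ⊔ Subgroup.zpowers c := by
      refine lt_of_le_of_ne le_sup_left ?_
      intro heq
      apply hcK
      rw [heq]
      exact (le_sup_right : Subgroup.zpowers c ≤ _) (Subgroup.mem_zpowers c)
    have hmem : K ⊔ Subgroup.zpowers c ∈ {K : Subgroup W | Z ≤ K ∧ K ≤ C ∧
        (Subgroup.centralizer (K : Set W)).index ≤ Z.relIndex K} := by
      refine ⟨hZK.trans le_sup_left, sup_le hKC (Subgroup.zpowers_le.2 hcC), ?_⟩
      have h1 : Subgroup.centralizer (K : Set W) ⊓ Subgroup.centralizer {c} ≤
          Subgroup.centralizer ((K ⊔ Subgroup.zpowers c : Subgroup W) : Set W) := by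
        intro w hw
        rw [Subgroup.mem_inf] at hw
        have h2 : K ⊔ Subgroup.zpowers c ≤ Subgroup.centralizer {w} := by
          apply sup_le
          · intro k hk
            rw [Subgroup.mem_centralizer_iff]
            intro v hv
            rw [Set.mem_singleton_iff] at hv
            rw [hv]
            exact (Subgroup.mem_centralizer_iff.1 hw.1 k hk).symm
          · rw [Subgroup.zpowers_le, Subgroup.mem_centralizer_iff]
            intro v hv
            rw [Set.mem_singleton_iff] at hv
            rw [hv]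
            exact (Subgroup.mem_centralizer_iff.1 hw.2 c rfl).symm
        rw [Subgroup.mem_centralizer_iff]
        intro v hv
        exact (Subgroup.mem_centralizer_iff.1 (h2 hv) w rfl).symm
      have h3 := Subgroup.index_dvd_of_le h1
      have h4 : (Subgroup.centralizer (K : Set W) ⊓ Subgroup.centralizer {c}).index ≤
          (Subgroup.centralizer (K : Set W)).index * (Subgroup.centralizer {c} : Subgroup W).index :=
        Subgroup.index_inf_le
      have h5 := hc.index_centralizer_le h c hcC
      have h6 := Nat.le_of_dvd (Nat.pos_of_ne_zero Subgroup.index_ne_zero_of_finite) h3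
      have h7 := Subgroup.relIndex_mul_relIndex Z K (K ⊔ Subgroup.zpowers c) hZK le_sup_left
      have h8 : K.relIndex (K ⊔ Subgroup.zpowers c) ≠ 1 := by
        intro e
        exact absurd (Subgroup.relIndex_eq_one.1 e) (not_le_of_gt hlt)
      have h9 : K.relIndex (K ⊔ Subgroup.zpowers c) ≠ 0 := Subgroup.index_ne_zero_of_finite
      have h10 : 2 ≤ K.relIndex (K ⊔ Subgroup.zpowers c) := by omega
      calc (Subgroup.centralizer ((K ⊔ Subgroup.zpowers c : Subgroup W) : Set W)).index
          ≤ (Subgroup.centralizer (K : Set W) ⊓ Subgroup.centralizer {c}).index := h6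
        _ ≤ (Subgroup.centralizer (K : Set W)).index *
            (Subgroup.centralizer {c} : Subgroup W).index := h4
        _ ≤ Z.relIndex K * 2 := Nat.mul_le_mul hKidx h5
        _ ≤ Z.relIndex K * K.relIndex (K ⊔ Subgroup.zpowers c) := Nat.mul_le_mul_left _ h10
        _ = _ := h7
    exact absurd (hmax hmem hlt.le) (not_le_of_gt hlt)
  rw [hKeq] at hKidx
  have hcent : Subgroup.centralizer (C : Set W) = Z := by
    ext w
    rw [hc.hZmem, Subgroup.mem_centralizer_iff]
    constructor
    · intro hw
      exact ⟨hc.cent w hw, hw⟩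
    · intro hw
      exact hw.2
  rw [hcent] at hKidx
  apply Subgroup.eq_top_of_card_eq
  have h1 := Z.card_mul_index
  have h2 := card_eq_mul_relIndex hc.hZC
  have h3 : Nat.card C ≤ Nat.card W := Subgroup.card_le_card_group C
  have h4 : Nat.card Z * Z.index ≤ Nat.card Z * Z.relIndex C := Nat.mul_le_mul_left _ hKidx
  omega

end Cfsg.Agent.Lib.Helper70.Ex
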