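import Mathlib
import Cfsg.Agent.Lib.Helper70.Ex.Top
import Cfsg.Prelude.Def_Transfer

set_option autoImplicit false

namespace Cfsg.Agent.Lib.Helper70.Ex

open Cfsg.Agent.S3738 (fx mem_fx)
open scoped commutatorElement

variable {W : Type*} [Group W] [Finite W] {p : ℕ} [Fact p.Prime] {E : Subgroup (MulAut W)}
  {C Z : Subgroup W}

theorem sup_relIndex_le {G : Type*} [Group G] [Finite G] (Z A B : Subgroup G) (hZA : Z ≤ A)
    (hZB : Z ≤ B) [B.Normal] : Z.relIndex (A ⊔ B) ≤ Z.relIndex A * Z.relIndex B := by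
  have h1 := Subgroup.relIndex_mul_relIndex Z B (A ⊔ B) hZB le_sup_right
  have h2 : B.relIndex (A ⊔ B) = B.relIndex A := Subgroup.relIndex_sup_right A B
  have h3 : (B ⊓ A).relIndex A = B.relIndex A := Subgroup.inf_relIndex_right B A
  have h4 := Subgroup.relIndex_mul_relIndex Z (B ⊓ A) A (le_inf hZB hZA) inf_le_right
  have h5 : Z.relIndex (B ⊓ A) ≠ 0 := Subgroup.index_ne_zero_of_finite
  have h6 : (B ⊓ A).relIndex A ≤ Z.relIndex A := by
    rw [← h4]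
    exact Nat.le_mul_of_pos_left _ (Nat.pos_of_ne_zero h5)
  rw [← h1, h2, ← h3, mul_comm]
  exact Nat.mul_le_mul_right _ h6

theorem num (j : ℕ) (h1 : 2 ^ j ≤ 256) (h2 : 8 ≤ 2 ^ j) (hmod : 2 * 2 ^ j ≡ 2 [MOD 3]) :
    2 * 2 ^ j = 2 ^ 5 ∨ 2 * 2 ^ j = 2 ^ 7 ∨ 2 * 2 ^ j = 2 ^ 9 := by
  have hj8 : j ≤ 8 := by
    by_contra hcon
    have : 2 ^ 9 ≤ 2 ^ j := Nat.pow_le_pow_right (by norm_num) (by omega)
    omega
  have hj3 : 3 ≤ j := by
    by_contra hcon
    have : 2 ^ j ≤ 2 ^ 2 := Nat.pow_le_pow_right (by norm_num) (by omega)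
    omega
  unfold Nat.ModEq at hmod
  interval_cases j <;> first | (exfalso; revert hmod; decide) | norm_num

theorem Crit.normal_fx (h : Ctx W p E) (hc : Crit W E C Z) (e : MulAut W) (he : e ∈ E) :
    (C ⊓ fx e).Normal := by
  constructor
  intro d hd w
  have h1 := hc.comm d hd.1 w
  have h2 : w * d * w⁻¹ = (d * w * d⁻¹ * w⁻¹)⁻¹ * d := by group
  rw [h2]
  have hZU : Z ≤ C ⊓ fx e := le_inf hc.hZC (fun x hx => hc.Z_fix h hx e he)
  exact Subgroup.mul_mem _ (Subgroup.inv_mem _ (hZU h1)) hd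

theorem Crit.card_W (h : Ctx W p E) (hc : Crit W E C Z) :
    Nat.card W = 2 ^ 5 ∨ Nat.card W = 2 ^ 7 ∨ Nat.card W = 2 ^ 9 := by
  have : Fact (Nat.Prime 2) := ⟨Nat.prime_two⟩
  obtain ⟨hp3, -, e1, he1, he11, h14, hCD1⟩ := hc.nine h
  obtain ⟨a, ha, b, hb, hap, hbp, ha1, hba⟩ := h.pair
  have hZU : ∀ e ∈ E, Z ≤ C ⊓ fx e := fun e he => le_inf hc.hZC (fun x hx => hc.Z_fix h hx e he)
  have hne : ∀ i : ℕ, a ^ i * b ≠ 1 := by
    intro i h1
    apply hba
    have : b = (a ^ i)⁻¹ := (inv_eq_of_mul_eq_one_right h1).symm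
    rw [this]
    exact Subgroup.inv_mem _ (Subgroup.pow_mem _ (Subgroup.mem_zpowers a) i)
  have hmemE : ∀ i : ℕ, a ^ i * b ∈ E := fun i => E.mul_mem (E.pow_mem ha i) hb
  have n0 := hc.normal_fx h _ (hmemE 0)
  have n1 := hc.normal_fx h _ (hmemE 1)
  have n2 := hc.normal_fx h _ (hmemE 2)
  have b_a := hc.relIndex_le h a ha ha1
  have b0 := hc.relIndex_le h _ (hmemE 0) (hne 0)
  have b1 := hc.relIndex_le h _ (hmemE 1) (hne 1)
  have b2 := hc.relIndex_le h _ (hmemE 2) (hne 2)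
  have hCH : C ≤ (((C ⊓ fx a) ⊔ (C ⊓ fx (a ^ 0 * b))) ⊔ (C ⊓ fx (a ^ 1 * b))) ⊔
      (C ⊓ fx (a ^ 2 * b)) := by
    apply gen_pair p 2 a b (h.comm a ha b hb) hap hbp C (h.hW.to_subgroup C) (hc.invC a ha)
      (hc.invC b hb) (h.not_dvd C)
    · exact le_sup_left.trans (le_sup_left.trans le_sup_left)
    · intro i
      have hi : a ^ i = a ^ (i % 3) := by
        rw [hp3] at hap
        exact pow_eq_pow_mod i hap
      rw [hi]
      have hlt : i % 3 = 0 ∨ i % 3 = 1 ∨ i % 3 = 2 := by omega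
      rcases hlt with e | e | e
      · rw [e]; exact le_sup_right.trans (le_sup_left.trans le_sup_left)
      · rw [e]; exact le_sup_right.trans le_sup_left
      · rw [e]; exact le_sup_right
  have s1 := sup_relIndex_le Z (C ⊓ fx a) (C ⊓ fx (a ^ 0 * b)) (hZU a ha) (hZU _ (hmemE 0))
  have s2 := sup_relIndex_le Z ((C ⊓ fx a) ⊔ (C ⊓ fx (a ^ 0 * b))) (C ⊓ fx (a ^ 1 * b))
    ((hZU a ha).trans le_sup_left) (hZU _ (hmemE 1))
  have s3 := sup_relIndex_le Z (((C ⊓ fx a) ⊔ (C ⊓ fx (a ^ 0 * b))) ⊔ (C ⊓ fx (a ^ 1 * b)))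
    (C ⊓ fx (a ^ 2 * b)) (((hZU a ha).trans le_sup_left).trans le_sup_left) (hZU _ (hmemE 2))
  have hHC : (((C ⊓ fx a) ⊔ (C ⊓ fx (a ^ 0 * b))) ⊔ (C ⊓ fx (a ^ 1 * b))) ⊔
      (C ⊓ fx (a ^ 2 * b)) = C :=
    le_antisymm (sup_le (sup_le (sup_le inf_le_left inf_le_left) inf_le_left) inf_le_left) hCH
  rw [hHC] at s3
  have t1 : Z.relIndex ((C ⊓ fx a) ⊔ (C ⊓ fx (a ^ 0 * b))) ≤ 16 :=
    s1.trans (Nat.mul_le_mul b_a b0)
  have t2 : Z.relIndex (((C ⊓ fx a) ⊔ (C ⊓ fx (a ^ 0 * b))) ⊔ (C ⊓ fx (a ^ 1 * b))) ≤ 64 :=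
    s2.trans (Nat.mul_le_mul t1 b1)
  have t3 : Z.relIndex C ≤ 256 := s3.trans (Nat.mul_le_mul t2 b2)
  -- lower bound
  have l1 := Subgroup.relIndex_mul_relIndex Z (C ⊓ fx e1) C (hZU e1 he1) inf_le_left
  have l2 : (C ⊓ fx e1).relIndex C ≠ 1 := fun e => hCD1 (Subgroup.relIndex_eq_one.1 e)
  have l3 : (C ⊓ fx e1).relIndex C ≠ 0 := Subgroup.index_ne_zero_of_finite
  rw [h14] at l1
  have l4 : 8 ≤ Z.relIndex C := by omega
  -- power of two
  obtain ⟨n, hn⟩ := IsPGroup.iff_card.1 (h.hW.to_subgroup C)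
  have hcardC := card_eq_mul_relIndex hc.hZC
  rw [hc.card_Z h] at hcardC
  have hdvd : Z.relIndex C ∣ 2 ^ n := by
    rw [← hn, hcardC]
    exact Dvd.intro_left _ rfl
  obtain ⟨j, -, hj⟩ := (Nat.dvd_prime_pow Nat.prime_two).1 hdvd
  -- mod 3
  have hmod := h.card_modEq C hc.invC
  rw [hc.fix_eq h, hc.card_Z h, hcardC, hj, hp3] at hmod
  have hW : Nat.card W = 2 * 2 ^ j := by
    rw [← hj, ← hcardC, hc.eq_top h, Subgroup.card_top]
  rw [hj] at t3 l4
  rw [hW]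
  exact num j t3 l4 hmod

theorem Ctx.main (h : Ctx W p E) : Nat.card E = 9 ∧ Cfsg.IsExtraspecial 2 W ∧
    (Nat.card W = 2 ^ 5 ∨ Nat.card W = 2 ^ 7 ∨ Nat.card W = 2 ^ 9) ∧
    {x : W | ∀ e ∈ E, e x = x} = (Subgroup.center W : Set W) := by
  have : Fact (Nat.Prime 2) := ⟨Nat.prime_two⟩
  obtain ⟨C, Z, hc⟩ := h.exists_crit
  have htop := hc.eq_top h
  have hcardW := hc.card_W h
  have hZcenter : Z = Subgroup.center W := by
    ext x
    rw [hc.hZmem, htop, Subgroup.mem_center_iff]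
    simp
  obtain ⟨z, hz, hz1, hzz, hall, hzc⟩ := hc.exists_z h
  have hcomle : commutator W ≤ Z := by
    rw [commutator_def, Subgroup.commutator_le]
    intro a _ b _
    rw [commutatorElement_def]
    exact hc.comm a (by rw [htop]; trivial) b
  have hZcom : Z ≤ commutator W := by
    have hna : ∃ a b : W, a * b ≠ b * a := by
      by_contra hcon
      push Not at hcon
      have h1 : (⊤ : Subgroup W) ≤ Z := by
        intro x _
        rw [hc.hZmem]
        exact ⟨by rw [htop]; trivial, fun c _ => hcon c x⟩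
      have h2 := Subgroup.card_le_of_le h1
      rw [Subgroup.card_top, hc.card_Z h] at h2
      rcases hcardW with e | e | e <;> omega
    obtain ⟨a, b, hab⟩ := hna
    have h1 : ⁅a, b⁆ ∈ commutator W :=
      Subgroup.commutator_mem_commutator (Subgroup.mem_top a) (Subgroup.mem_top b)
    have h2 : ⁅a, b⁆ = z := by
      rcases hall _ (hcomle h1) with e | e
      · exact absurd (commutatorElement_eq_one_iff_mul_comm.1 e) hab
      · exact e
    intro v hv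
    rcases hall v hv with rfl | rfl
    · exact Subgroup.one_mem _
    · rw [← h2]; exact h1
  have hcom : commutator W = Z := le_antisymm hcomle hZcom
  have hfr : frattini W = Z := by
    apply le_antisymm
    · apply Cfsg.Agent.Lib.Helper3.frattini_le_of_elementary_quotient Nat.prime_two Z hcomle
      intro x
      rw [pow_two]
      exact hc.sq x (by rw [htop]; trivial)
    · rw [← hcom]
      exact Cfsg.Agent.Lib.Helper3.commutator_le_frattini h.hW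
  refine ⟨(hc.nine h).2.1, ⟨⟨h.hW, ?_, ?_⟩, ?_⟩, hcardW, ?_⟩
  · rw [hfr, hZcenter]
  · rw [hcom, hZcenter]
  · rw [← hZcenter]
    exact hc.card_Z h
  · have h1 := hc.fix_eq h
    rw [htop, top_inf_eq] at h1
    rw [← hZcenter, ← h1]
    rfl

end Cfsg.Agent.Lib.Helper70.Ex
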